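import Cfsg.Agent.H625.KGV.Orbit
import Cfsg.Agent.H500.KGV.Eig

/-!
# Integrality of the Gauss sum class functions on elementary groups (task ELEM)
-/

set_option autoImplicit false

open Cfsg Finset
open scoped ComplexConjugate

namespace Cfsg.Agent.H625.KGV

open Cfsg.Agent.H644.KGV
open Cfsg.Agent.H500.KGV
open Cfsg.Agent.Characters

universe u

section UInt

variable {G : Type u} [Group G]

theorem gen_of_char {χ : G → ℂ} (h : IsCharacter G χ) : IsGeneralizedCharacter G χ :=
  ⟨χ, 0, h, Core.isCharacter_zero, (sub_zero χ).symm⟩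

theorem gen_zero : IsGeneralizedCharacter G (0 : G → ℂ) := gen_of_char Core.isCharacter_zero

theorem gen_add {χ ψ : G → ℂ} (h : IsGeneralizedCharacter G χ) (h' : IsGeneralizedCharacter G ψ) :
    IsGeneralizedCharacter G (χ + ψ) := by
  obtain ⟨a, b, ha, hb, rfl⟩ := h
  obtain ⟨c, d, hc, hd, rfl⟩ := h'
  exact ⟨a + c, b + d, Core.isCharacter_add ha hc, Core.isCharacter_add hb hd, by ring⟩

theorem gen_mul {χ ψ : G → ℂ} (h : IsGeneralizedCharacter G χ) (h' : IsGeneralizedCharacter G ψ) :
    IsGeneralizedCharacter G (χ * ψ) := by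
  obtain ⟨a, b, ha, hb, rfl⟩ := h
  obtain ⟨c, d, hc, hd, rfl⟩ := h'
  exact ⟨a * c + b * d, a * d + b * c,
    Core.isCharacter_add (Core.isCharacter_mul ha hc) (Core.isCharacter_mul hb hd),
    Core.isCharacter_add (Core.isCharacter_mul ha hd) (Core.isCharacter_mul hb hc), by ring⟩

theorem gen_sum {ι : Type*} (s : Finset ι) {χ : ι → G → ℂ}
    (h : ∀ i ∈ s, IsGeneralizedCharacter G (χ i)) : IsGeneralizedCharacter G (∑ i ∈ s, χ i) := by
  classical
  induction s using Finset.induction_on with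
  | empty => exact gen_zero
  | insert a s ha ih =>
    rw [Finset.sum_insert ha]
    exact gen_add (h a (Finset.mem_insert_self a s))
      (ih fun i hi => h i (Finset.mem_insert_of_mem hi))

variable {p : ℕ} [NeZero p]

theorem uint_congr {κ κ' : ZMod p → G → ℂ} (h : UInt p G κ)
    (hc : ∀ a, a ≠ 0 → ∀ g, κ' a g = κ a g) : UInt p G κ' := by
  obtain ⟨θ, h1, h2⟩ := h
  exact ⟨θ, h1, fun a ha g => (hc a ha g).trans (h2 a ha g)⟩

theorem uint_one : UInt p G (fun _ _ => 1) := by
  refine ⟨fun k => if k = 0 then 1 else 0, fun k => ?_, fun a _ g => ?_⟩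
  · by_cases h : k = 0
    · simp only [h, if_true]
      exact gen_of_char Core.isCharacter_one
    · simp only [h, if_false]
      exact gen_zero
  · rw [Finset.sum_eq_single 0]
    · simp
    · intro k _ hk
      simp [hk]
    · exact fun h => absurd (Finset.mem_univ _) h

theorem uint_mul {κ κ' : ZMod p → G → ℂ} (h : UInt p G κ) (h' : UInt p G κ') :
    UInt p G (fun a g => κ a g * κ' a g) := by
  obtain ⟨θ, h1, h2⟩ := h
  obtain ⟨θ', h1', h2'⟩ := h'
  refine ⟨fun k => ∑ i : ZMod p, θ i * θ' (k - i), fun k => gen_sum _ fun i _ =>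
    gen_mul (h1 i) (h1' _), fun a ha g => ?_⟩
  simp only [Finset.sum_apply, Pi.mul_apply]
  rw [h2 a ha g, h2' a ha g, Finset.sum_mul_sum]
  simp only [Finset.mul_sum]
  rw [Finset.sum_comm (s := (Finset.univ : Finset (ZMod p))) (t := Finset.univ)
    (f := fun k i => (ZMod.stdAddChar (a * k) : ℂ) * (θ i g * θ' (k - i) g))]
  refine Finset.sum_congr rfl fun i _ => ?_
  refine Fintype.sum_equiv (Equiv.addRight i) _ _ fun j => ?_
  simp only [Equiv.coe_addRight, add_sub_cancel_right, mul_add, AddChar.map_add_eq_mul]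
  ring

end UInt

variable {E : Type u} [Group E] [Finite E]

/-- `kap` of an orbit sum. -/
theorem kap_orbit {q : ℕ} (hq : q.Coprime (Nat.card E)) (F : ℂ → ℂ) {ψ : E → ℂ}
    (hψ : IsIrrCharacter E ψ) (d : ℕ) (g : E) :
    kap F (fun h => ∑ i ∈ range d, ψ (h ^ (q ^ i))) g =
      kap (fun z => ∏ i ∈ range d, F (z ^ (q ^ i))) ψ g := by
  have h1 : (fun h : E => ∑ i ∈ range d, ψ (h ^ (q ^ i))) =
      ∑ i ∈ range d, fun h : E => ψ (h ^ (q ^ i)) := by
    funext h
    rw [Finset.sum_apply]
  have hc : ∀ i, IsCharacter E (fun h : E => ψ (h ^ (q ^ i))) := fun i =>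
    Core.isIrr_isCharacter (GaloisIrr.isIrr_pow (Nat.Coprime.pow_left i hq) hψ)
  rw [h1, kap_sum F _ (fun i _ => hc i), kap_prod]
  refine Finset.prod_congr rfl fun i _ => ?_
  exact kap_power_twist F (Core.isIrr_isCharacter hψ) (fun _ => rfl) g

/-- **Task ELEM.** -/
theorem elem (h1 : IndStep.{u}) (h2 : Semilinear.{u}) (h3 : Dichotomy.{u}) : Elem.{u} := by
  intro p _ T hT
  -- induction on the order
  suffices H : ∀ (n : ℕ) (E : Type u) [Group E] [Finite E], Nat.card E ≤ n → ∀ (ℓ f : ℕ),
      ℓ.Prime → IsElementary ℓ E → ¬ p ∣ Nat.card E → 1 ≤ f →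
      ∀ (χ : E → ℂ), IsCharacter E χ → (∀ h : E, χ (h ^ (p ^ f)) = χ h) →
      ∀ (F : ZMod p → ℂ → ℂ), (∀ a, a ≠ 0 → OrbFun p T f a (F a)) →
        UInt p E (fun a => kap (F a) χ) from
    fun E _ _ ℓ f hℓ hE hp hf χ hχ hinv F hF => H _ E le_rfl ℓ f hℓ hE hp hf χ hχ hinv F hF
  intro n
  induction n with
  | zero =>
    intro E _ _ hn
    exact absurd (Nat.card_pos (α := E)) (by omega)
  | succ n ih =>
    intro E _ _ hn ℓ f hℓ hE hp hf
    have := Fintype.ofFinite E
    have hcop : ∀ f, (p ^ f).Coprime (Nat.card E) := fun f =>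
      Nat.Coprime.pow_left f ((Nat.Prime.coprime_iff_not_dvd Fact.out).2 hp)
    -- the irreducible case
    have hirr : ∀ (f : ℕ), 1 ≤ f → ∀ (χ : E → ℂ), IsIrrCharacter E χ →
        (∀ h : E, χ (h ^ (p ^ f)) = χ h) →
        ∀ (F : ZMod p → ℂ → ℂ), (∀ a, a ≠ 0 → OrbFun p T f a (F a)) →
          UInt p E (fun a => kap (F a) χ) := by
      intro f hf χ hχ hinv F hF
      rcases h3 p E ℓ f hℓ hE hp hf χ hχ hinv with
        ⟨N, φ, hN, hidx, hℓf, hφ, hφi, rfl⟩ | ⟨A, t, k, lam, hA, hidx, hℓf, htop, hlam, rfl⟩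
      · have hcard : Nat.card N * N.index = Nat.card E := N.card_mul_index
        have hlt : Nat.card N < Nat.card E := by
          have hpos : 0 < Nat.card N := Nat.card_pos
          have := hℓ.two_le
          rw [hidx] at hcard
          nlinarith
        have hNp : ¬ p ∣ Nat.card N := fun h => hp (h.trans (Subgroup.card_subgroup_dvd_card N))
        exact h1 p T hT E N ℓ f hp hℓ hidx hf hℓf φ hφ hφi F hF
          (ih N (by omega) ℓ f hℓ (Elementary.isElementary_subgroup hℓ hE N) hNp hf φ hφ hφi F hF)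
      · exact h2 p T hT E A t ℓ k f lam hp hℓ hidx hf hℓf htop hlam F hF
    -- induction on the degree
    suffices H : ∀ (m : ℕ) (χ : E → ℂ), IsCharacter E χ → (∀ k : ℕ, χ 1 = k → k ≤ m) →
        (∀ h : E, χ (h ^ (p ^ f)) = χ h) →
        ∀ (F : ZMod p → ℂ → ℂ), (∀ a, a ≠ 0 → OrbFun p T f a (F a)) →
          UInt p E (fun a => kap (F a) χ) by
      intro χ hχ hinv F hF
      obtain ⟨m, hm⟩ := Core.isCharacter_apply_one hχ
      refine H m χ hχ (fun k hk => ?_) hinv F hF
      rw [hm] at hk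
      exact (by exact_mod_cast hk.symm : k = m).le
    intro m
    induction m with
    | zero =>
      intro χ hχ hm hinv F hF
      obtain ⟨m, hm'⟩ := Core.isCharacter_apply_one hχ
      have hm0 : m = 0 := Nat.le_zero.1 (hm m hm')
      have hχ0 : χ = 0 := by
        by_contra hne
        obtain ⟨ψ, hψ, d, hd, -, χ', hχ', -, hdec⟩ := orbit_decomp (hcop f) hχ hinv hne
        obtain ⟨r, hr0, hr⟩ := Core.isIrr_apply_one hψ
        obtain ⟨s, hs⟩ := Core.isCharacter_apply_one hχ'
        have h4 := congrFun hdec 1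
        simp only [Pi.add_apply, one_pow, Finset.sum_const, Finset.card_range, nsmul_eq_mul, hr,
          hs, hm', hm0] at h4
        have h5 : 0 = d * r + s := by exact_mod_cast h4
        have := Nat.mul_pos hd hr0
        omega
      subst hχ0
      exact uint_congr uint_one fun a _ g => kap_zero (F a) g
    | succ m ihm =>
      intro χ hχ hm hinv F hF
      by_cases hne : χ = 0
      · subst hne
        exact uint_congr uint_one fun a _ g => kap_zero (F a) g
      obtain ⟨ψ, hψ, d, hd, hψd, χ', hχ', hχ'i, hdec⟩ := orbit_decomp (hcop f) hχ hinv hne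
      have hsum : IsCharacter E (fun h => ∑ i ∈ range d, ψ (h ^ ((p ^ f) ^ i))) := by
        have h6 : (fun h : E => ∑ i ∈ range d, ψ (h ^ ((p ^ f) ^ i))) =
            ∑ i ∈ range d, fun h : E => ψ (h ^ ((p ^ f) ^ i)) := by
          funext h
          rw [Finset.sum_apply]
        rw [h6]
        exact Core.isCharacter_sum _ fun i _ =>
          Core.isIrr_isCharacter (GaloisIrr.isIrr_pow (Nat.Coprime.pow_left i (hcop f)) hψ)
      have hu1 : UInt p E (fun a => kap (fun z => ∏ i ∈ range d, F a (z ^ (p ^ (f * i)))) ψ) := by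
        refine hirr (f * d) (Nat.mul_pos hf hd) ψ hψ (fun h => ?_) _
          fun a ha => orbFun_prod (hF a ha) hd
        rw [pow_mul]
        exact hψd h
      have hu2 : UInt p E (fun a => kap (F a) χ') := by
        refine ihm χ' hχ' (fun k hk => ?_) hχ'i F hF
        obtain ⟨r, hr0, hr⟩ := Core.isIrr_apply_one hψ
        obtain ⟨s, hs⟩ := Core.isCharacter_apply_one hχ
        have h4 := congrFun hdec 1
        simp only [Pi.add_apply, one_pow, Finset.sum_const, Finset.card_range, nsmul_eq_mul, hr,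
          hs, hk] at h4
        have h5 : s = d * r + k := by exact_mod_cast h4
        have := Nat.mul_pos hd hr0
        have := hm s hs
        omega
      refine uint_congr (uint_mul hu1 hu2) fun a ha g => ?_
      rw [hdec, kap_add (F a) hsum hχ', kap_orbit (hcop f) (F a) hψ d g]
      congr 2
      funext z
      refine Finset.prod_congr rfl fun i _ => ?_
      rw [pow_mul]

end Cfsg.Agent.H625.KGV
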