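import Cfsg.Agent.H644.KGV.Goals
import Cfsg.Agent.Characters.GaloisIrr
import Cfsg.Agent.Characters.Elementary

/-!
# Invariant characters are sums over orbits; orbit functions

* `OrbFun.prod`: the product of an orbit function over `m` Frobenius steps is an orbit function
  for `f * m`.
* `orbit_decomp`: a nonzero character invariant under the power map by `q` contains the sum over the
  `q`-orbit of an irreducible character.
-/

set_option autoImplicit false
set_option linter.unusedSectionVars false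

open Cfsg Finset
open scoped ComplexConjugate

namespace Cfsg.Agent.H625.KGV

open Cfsg.Agent.H644.KGV
open Cfsg.Agent.Characters

universe u

theorem prod_range_mul' {M : Type*} [CommMonoid M] (G : ℕ → M) (m e : ℕ) :
    ∏ i ∈ range e, ∏ j ∈ range m, G (m * i + j) = ∏ k ∈ range (m * e), G k := by
  induction e with
  | zero => simp
  | succ e ih => rw [Finset.prod_range_succ, ih, Nat.mul_succ, Finset.prod_range_add]

/-- The product of an orbit function over `m` Frobenius steps is an orbit function. -/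
theorem orbFun_prod {p : ℕ} [NeZero p] {T : ℕ → ℕ → ZMod p} {f : ℕ} {a : ZMod p} {F : ℂ → ℂ}
    (h : OrbFun p T f a F) {m : ℕ} (hm : 1 ≤ m) :
    OrbFun p T (f * m) a (fun z => ∏ i ∈ range m, F (z ^ (p ^ (f * i)))) := by
  intro e z he hz
  have h1 := h (m * e) z (Nat.mul_pos hm he) (by rw [← Nat.mul_assoc]; exact hz)
  rw [← Nat.mul_assoc] at h1
  rw [← h1, ← prod_range_mul' (fun k => F (z ^ (p ^ (f * k)))) m e]
  refine prod_congr rfl fun i _ => prod_congr rfl fun j _ => ?_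
  rw [← pow_mul, ← pow_add]
  congr 3
  ring

variable {E : Type u} [Group E] [Finite E]

theorem pow_pow_pow (h : E) (q i : ℕ) : (h ^ q) ^ (q ^ i) = h ^ (q ^ (i + 1)) := by
  rw [← pow_mul, pow_succ']

/-- The inner product is invariant under power maps. -/
theorem classInner_pow [Fintype E] {m : ℕ} (hm : m.Coprime (Nat.card E)) (χ ψ : E → ℂ) :
    classInner (fun g => χ (g ^ m)) (fun g => ψ (g ^ m)) = classInner χ ψ := by
  rw [Core.classInner_def, Core.classInner_def]
  congr 1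
  exact Fintype.sum_equiv (powCoprime hm.symm) _ _ fun g => rfl

theorem inv_pow {q : ℕ} {χ : E → ℂ} (hinv : ∀ h, χ (h ^ q) = χ h) (i : ℕ) (h : E) :
    χ (h ^ (q ^ i)) = χ h := by
  induction i with
  | zero => rw [pow_zero, pow_one]
  | succ i ih => rw [pow_succ, pow_mul, hinv, ih]

/-- A nonzero character invariant under the `q`-th power map contains the sum over the `q`-orbit of
an irreducible character. -/
theorem orbit_decomp {q : ℕ} (hq : q.Coprime (Nat.card E)) {χ : E → ℂ} (hχ : IsCharacter E χ)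
    (hinv : ∀ h, χ (h ^ q) = χ h) (h0 : χ ≠ 0) :
    ∃ ψ : E → ℂ, IsIrrCharacter E ψ ∧ ∃ d : ℕ, 1 ≤ d ∧ (∀ h, ψ (h ^ (q ^ d)) = ψ h) ∧
      ∃ χ' : E → ℂ, IsCharacter E χ' ∧ (∀ h, χ' (h ^ q) = χ' h) ∧
        (χ = (fun h => ∑ i ∈ range d, ψ (h ^ (q ^ i))) + χ') := by
  classical
  have := Fintype.ofFinite E
  have := Core.finite_irr (G := E)
  have := Fintype.ofFinite (IrrCharacter E)
  obtain ⟨m, hm⟩ := Core.exists_nat_comb hχ
  have hmi : ∀ ψ : IrrCharacter E, classInner χ (ψ : E → ℂ) = m ψ := fun ψ => by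
    rw [hm]; exact Core.classInner_sum_nsmul_irr m ψ
  have hex : ∃ ψ, m ψ ≠ 0 := by
    by_contra hcon
    push Not at hcon
    apply h0
    rw [hm]
    exact Finset.sum_eq_zero fun ψ _ => by rw [hcon ψ, zero_smul]
  obtain ⟨ψ, hψ⟩ := hex
  have hqi : ∀ i, (q ^ i).Coprime (Nat.card E) := fun i => Nat.Coprime.pow_left i hq
  -- the orbit
  let Ψ : ℕ → IrrCharacter E := fun i => ⟨_, GaloisIrr.isIrr_pow (hqi i) ψ.2⟩
  have hΨ : ∀ i h, (Ψ i : E → ℂ) h = (ψ : E → ℂ) (h ^ (q ^ i)) := fun i h => rfl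
  have hex2 : ∃ d, 1 ≤ d ∧ ∀ h, (ψ : E → ℂ) (h ^ (q ^ d)) = (ψ : E → ℂ) h := by
    refine ⟨Nat.totient (Nat.card E), Nat.totient_pos.2 Nat.card_pos, fun h => ?_⟩
    have h1 : q ^ Nat.totient (Nat.card E) ≡ 1 [MOD Nat.card E] := Nat.ModEq.pow_totient hq
    have h2 : h ^ (q ^ Nat.totient (Nat.card E)) = h ^ 1 :=
      pow_eq_pow_iff_modEq.2 (h1.of_dvd (orderOf_dvd_natCard h))
    rw [h2, pow_one]
  let d := Nat.find hex2
  obtain ⟨hd1, hd2⟩ := Nat.find_spec hex2
  have hmin : ∀ k, k < d → ¬(1 ≤ k ∧ ∀ h, (ψ : E → ℂ) (h ^ (q ^ k)) = (ψ : E → ℂ) h) :=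
    fun k hk => Nat.find_min hex2 hk
  have hinj : ∀ i j, i < j → j < d → Ψ i ≠ Ψ j := by
    intro i j hij hj heq
    refine hmin (j - i) (by omega) ⟨by omega, fun h => ?_⟩
    -- `h` is a `q ^ i`-th power
    obtain ⟨g, rfl⟩ : ∃ g : E, g ^ (q ^ i) = h := (powCoprime (hqi i).symm).surjective h
    have h1 := congrFun (congrArg Subtype.val heq) g
    change (ψ : E → ℂ) (g ^ (q ^ i)) = (ψ : E → ℂ) (g ^ (q ^ j)) at h1
    have h2 : (g ^ (q ^ i)) ^ (q ^ (j - i)) = g ^ (q ^ j) := by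
      rw [← pow_mul, ← pow_add, Nat.add_sub_cancel' hij.le]
    rw [h2, h1]
  have hmΨ : ∀ i, m (Ψ i) = m ψ := by
    intro i
    have h1 : classInner χ (Ψ i : E → ℂ) = classInner χ (ψ : E → ℂ) := by
      rw [← classInner_pow (hqi i) χ (ψ : E → ℂ)]
      congr 1
      funext h
      exact (inv_pow hinv i h).symm
    rw [hmi, hmi] at h1
    exact_mod_cast h1
  let S : Finset (IrrCharacter E) := (range d).image Ψ
  have hS : ∀ φ ∈ S, 1 ≤ m φ := by
    intro φ hφ
    obtain ⟨i, _, rfl⟩ := Finset.mem_image.1 hφ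
    rw [hmΨ]
    omega
  have hinjOn : Set.InjOn Ψ (range d : Set ℕ) := by
    intro i hi j hj hij
    rcases lt_trichotomy i j with h | h | h
    · exact absurd hij (hinj i j h (Finset.mem_range.1 (Finset.mem_coe.1 hj)))
    · exact h
    · exact absurd hij.symm (hinj j i h (Finset.mem_range.1 (Finset.mem_coe.1 hi)))
  let m' : IrrCharacter E → ℕ := fun φ => m φ - if φ ∈ S then 1 else 0
  have hsum : (fun h => ∑ i ∈ range d, (ψ : E → ℂ) (h ^ (q ^ i))) =
      ∑ φ : IrrCharacter E, (if φ ∈ S then 1 else 0 : ℕ) • (φ : E → ℂ) := by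
    simp only [ite_smul, one_smul, zero_smul]
    rw [Finset.sum_ite_mem, Finset.univ_inter, Finset.sum_image hinjOn]
    funext h
    rw [Finset.sum_apply]
  have hdec : χ = (fun h => ∑ i ∈ range d, (ψ : E → ℂ) (h ^ (q ^ i))) +
      ∑ φ : IrrCharacter E, m' φ • (φ : E → ℂ) := by
    rw [hsum, ← Finset.sum_add_distrib]
    refine hm.trans (Finset.sum_congr rfl fun φ _ => ?_)
    rw [← add_smul]
    congr 1
    by_cases hφ : φ ∈ S
    · have := hS φ hφ
      simp only [m', if_pos hφ]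
      omega
    · simp only [m', if_neg hφ, zero_add, Nat.sub_zero]
  refine ⟨ψ, ψ.2, d, hd1, hd2, ∑ φ : IrrCharacter E, m' φ • (φ : E → ℂ),
    Core.isCharacter_sum _ fun φ _ => Core.isCharacter_nsmul _ (Core.isIrr_isCharacter φ.2), ?_,
    hdec⟩
  intro h
  have h1 := congrFun hdec h
  have h2 := congrFun hdec (h ^ q)
  rw [Pi.add_apply] at h1 h2
  rw [hinv h, h1] at h2
  have h3 : ∑ i ∈ range d, (ψ : E → ℂ) ((h ^ q) ^ (q ^ i)) =
      ∑ i ∈ range d, (ψ : E → ℂ) (h ^ (q ^ i)) := by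
    simp only [pow_pow_pow]
    have h4 := Finset.sum_range_succ' (fun i => (ψ : E → ℂ) (h ^ (q ^ i))) d
    have h5 := Finset.sum_range_succ (fun i => (ψ : E → ℂ) (h ^ (q ^ i))) d
    rw [h5] at h4
    have h6 : (ψ : E → ℂ) (h ^ (q ^ d)) = (ψ : E → ℂ) (h ^ (q ^ 0)) := by
      rw [pow_zero, pow_one]; exact hd2 h
    rw [h6] at h4
    exact (add_right_cancel h4).symm
  rw [h3] at h2
  exact (add_left_cancel h2).symm

end Cfsg.Agent.H625.KGV
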